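import Groth.Agent.QC.FTSup
import Groth.Agent.QC.Coherent
import Groth.Agent.SymAlgGen.Basic
import Groth.Agent.SymAlg.DegPiece

/-!
Finite type submodules and subalgebras of a quasi-coherent algebra through given sections.
-/

set_option autoImplicit false
set_option backward.isDefEq.respectTransparency false

universe u

open CategoryTheory CategoryTheory.Limits AlgebraicGeometry TopologicalSpace Opposite
open Groth.Agent.QC Groth.Agent.SymAlgGen

noncomputable section

namespace Groth.Agent.QCSup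

variable {X : Scheme.{u}}

/-- A locally Noetherian space: a submodule of finite type through a section. -/
theorem exists_sub_section {F : X.Modules} [F.IsQuasicoherent]
    (hX : ∀ x : X, ∃ U : X.Opens, x ∈ U ∧ NoetherianSpace (U : Set X))
    {U : X.Opens} (hU : IsAffineOpen U) (s : Γ(F, U)) :
    ∃ S : Sub F, LocFinGen S ⊤ ∧ s ∈ S.obj U := by
  classical
  obtain ⟨S, hS, he⟩ := exists_extend hX (genSub (({s} : Finset Γ(F, U)) : Set Γ(F, U))) (W := U)
    fun x hx => ⟨U, hU, hx, le_rfl, {s}, ⟨fun t ht => mem_genSub_of_mem ht, fun O _ => le_rfl⟩⟩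
  exact ⟨S, hS, (he U le_rfl).ge (mem_genSub_of_mem (by simp))⟩

/-- A Noetherian space is quasi-separated. -/
theorem quasiSeparated_of_noetherianSpace [NoetherianSpace X] : QuasiSeparatedSpace X :=
  ⟨fun _ _ _ _ _ _ => NoetherianSpace.isCompact _⟩

/-- The module of a quasi-coherent algebra is quasi-coherent. -/
theorem isQCoh_toModule (B : RelSpec.QCAlg X) : Coh.IsQCoh B.toModule := by
  refine isQCoh_of_isLoc fun x => ?_
  obtain ⟨U, hU, hx⟩ := exists_affine_mem x
  refine ⟨U, hU, hx, fun r t => ?_, fun r s hs => ?_⟩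
  · letI := (B.presheaf.map (homOfLE (X.basicOpen_le r)).op).hom.toAlgebra
    haveI := B.isQC U hU r
    obtain ⟨⟨a, _, n, rfl⟩, ha⟩ := IsLocalization.surj (Submonoid.powers (strS B U r))
      (show B.presheaf.obj (op (X.basicOpen r)) from t)
    refine ⟨n, a, ha.symm.trans ?_⟩
    change (show B.presheaf.obj (op (X.basicOpen r)) from t) * aRes B (X.basicOpen_le r) (strS B U r ^ n) =
      strS B (X.basicOpen r) (resO X (X.basicOpen_le r) r ^ n) * (show B.presheaf.obj (op (X.basicOpen r)) from t)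
    rw [map_pow, map_pow, aRes_strS, mul_comm]
  · letI := (B.presheaf.map (homOfLE (X.basicOpen_le r)).op).hom.toAlgebra
    haveI := B.isQC U hU r
    obtain ⟨⟨_, n, rfl⟩, hn⟩ := (IsLocalization.map_eq_zero_iff (Submonoid.powers (strS B U r))
      (B.presheaf.obj (op (X.basicOpen r))) _).1
        (show aRes B (X.basicOpen_le r) (show B.presheaf.obj (op U) from s) = 0 from hs)
    refine ⟨n, ?_⟩
    change strS B U (r ^ n) * (show B.presheaf.obj (op U) from s) = (0 : B.presheaf.obj (op U))
    rw [map_pow]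
    exact hn

/-- The subring generated by a finite type submodule is of finite type. -/
theorem finiteType_subAlg (B : RelSpec.QCAlg X) {S : Sub B.toModule} (hS : LocFinGen S ⊤)
    [S.toModules.IsQuasicoherent] {U : X.Opens} (hU : IsAffineOpen U) :
    (((subAlg S.ι).str.app (op U))).hom.FiniteType := by
  classical
  haveI : B.toModule.IsQuasicoherent := isQCoh_toModule B
  haveI := finite_sections hU (Sub.isCoh_toModules hS).2
  obtain ⟨T, hT⟩ := Module.Finite.fg_top (R := Γ(X, U)) (M := Γ(S.toModules, U))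
  have hmem : ∀ e : Γ(S.toModules, U), jsec S.ι U e ∈ loc S.ι U := fun e =>
    (loc_eq_gen S.ι hU).ge (jsec_mem_gen S.ι U e)
  let v : Γ(S.toModules, U) → loc S.ι U := fun e => ⟨jsec S.ι U e, hmem e⟩
  let sm : Γ(X, U) →+* loc S.ι U := ((locStr S.ι).app (op U)).hom
  letI := sm.toAlgebra
  change sm.FiniteType
  refine ⟨⟨T.image v, ?_⟩⟩
  rw [eq_top_iff]
  let R' := Algebra.adjoin Γ(X, U) ((T.image v : Finset (loc S.ι U)) : Set (loc S.ι U))
  change ⊤ ≤ R'
  have hle : gen S.ι U ≤ R'.toSubring.map (loc S.ι U).subtype := by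
    refine Subring.closure_le.2 ?_
    rintro _ (⟨r, rfl⟩ | ⟨e, rfl⟩)
    · exact ⟨sm r, R'.algebraMap_mem r, rfl⟩
    · refine ⟨v e, ?_, rfl⟩
      have he : e ∈ Submodule.span Γ(X, U) (T : Set Γ(S.toModules, U)) := by rw [hT]; trivial
      induction he using Submodule.span_induction with
      | mem y hy => exact Algebra.subset_adjoin (by
          rw [Finset.coe_image]; exact ⟨y, hy, rfl⟩)
      | zero =>
          have : v 0 = 0 := Subtype.ext (map_zero (S.ι.app U).hom)
          rw [this]; exact R'.zero_mem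
      | add y z _ _ hy hz =>
          have : v (y + z) = v y + v z := Subtype.ext (map_add (S.ι.app U).hom y z)
          rw [this]; exact R'.add_mem hy hz
      | smul r y _ hy =>
          have : v (r • y) = sm r * v y := Subtype.ext (jsec_smul S.ι U r y)
          rw [this]; exact R'.mul_mem (R'.algebraMap_mem r) hy
  intro a _
  obtain ⟨b, hb, e⟩ := hle ((loc_eq_gen S.ι hU).le a.2)
  exact (Subtype.ext e : b = a) ▸ hb

/-- A subalgebra of finite type through a section. -/
theorem exists_subalgebra (B : RelSpec.QCAlg X) {S : Sub B.toModule} (hS : LocFinGen S ⊤)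
    {U : X.Opens} (hU : IsAffineOpen U) {b : B.presheaf.obj (op U)} (hb : b ∈ S.obj U) :
    ∃ (B' : RelSpec.QCAlg X) (φ : B' ⟶ B),
      (∀ V : X.Opens, Function.Injective (φ.hom.app (op V)).hom) ∧
      (∀ V : X.affineOpens, (B'.str.app (op (V : X.Opens))).hom.FiniteType) ∧
      b ∈ Set.range (φ.hom.app (op U)).hom := by
  haveI : B.toModule.IsQuasicoherent := isQCoh_toModule B
  haveI : S.toModules.IsQuasicoherent := (Sub.isCoh_toModules hS).1
  refine ⟨subAlg S.ι, incl S.ι, fun V a a' h => Subtype.ext h, fun V => finiteType_subAlg B hS V.2, ?_⟩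
  obtain ⟨e, he⟩ := (S.range_ι_app U _).2 hb
  exact ⟨⟨jsec S.ι U e, (loc_eq_gen S.ι hU).ge (jsec_mem_gen S.ι U e)⟩, he⟩

/-- A finite type submodule generating an algebra of finite type. -/
theorem exists_generating [CompactSpace X] [QuasiSeparatedSpace X] (B : RelSpec.QCAlg X)
    (hB : ∀ U : X.affineOpens, (B.str.app (op (U : X.Opens))).hom.FiniteType) :
    ∃ S : Sub B.toModule, LocFinGen S ⊤ ∧ ∀ U : X.Opens, IsAffineOpen U → gen S.ι U = ⊤ := by
  classical
  haveI : B.toModule.IsQuasicoherent := isQCoh_toModule B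
  obtain ⟨t, ht⟩ := isCompact_univ.elim_finite_subcover (fun U : X.affineOpens ↦ (U.1 : Set X))
    (fun U ↦ U.1.2) (fun x _ ↦ by
      obtain ⟨U, hU, hx⟩ := exists_affine_mem (X := X) x
      exact Set.mem_iUnion.mpr ⟨⟨U, hU⟩, hx⟩)
  have hg : ∀ V : X.affineOpens, ∃ T : Finset (B.presheaf.obj (op V.1)),
      Subring.closure (Set.range (strS B V.1) ∪ (T : Set (B.presheaf.obj (op V.1)))) = ⊤ := fun V => by
    letI := (strS B V.1).toAlgebra
    have hV : Algebra.FiniteType Γ(X, V.1) (B.presheaf.obj (op V.1)) := hB V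
    obtain ⟨T, hT⟩ := hV.out
    refine ⟨T, eq_top_iff.2 fun a _ => ?_⟩
    have ha : a ∈ (Algebra.adjoin Γ(X, V.1) (T : Set (B.presheaf.obj (op V.1)))).toSubring := by
      rw [hT]; trivial
    rwa [Algebra.adjoin_eq_ring_closure] at ha
  choose T hT using hg
  obtain ⟨S, hS, hmem⟩ := exists_sub_containing (F := B.toModule) t (fun V => V.1) (fun V => V.2) T
  haveI : S.toModules.IsQuasicoherent := (Sub.isCoh_toModules hS).1
  refine ⟨S, hS, fun U hU => eq_top_iff.2 fun a _ => mem_gen_of_local S.ι hU a fun x hx => ?_⟩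
  obtain ⟨V, hVt, hxV⟩ := Set.mem_iUnion₂.1 (ht (Set.mem_univ x))
  obtain ⟨f, g, hfg, hxf⟩ := exists_basicOpen_le_affine_inter hU V.2 x ⟨hx, hxV⟩
  refine ⟨f, hxf, ?_⟩
  have hV : gen S.ι V.1 = ⊤ := by
    refine eq_top_iff.2 ((hT V).ge.trans (Subring.closure_le.2 ?_))
    rintro y (⟨r, rfl⟩ | hy)
    · exact strS_mem_gen _ _ r
    · obtain ⟨e, he⟩ := (S.range_ι_app V.1 _).2 (hmem V hVt y hy)
      rw [← show jsec S.ι V.1 e = y from he]
      exact jsec_mem_gen _ _ _
  have hg' : gen S.ι (X.basicOpen g) = ⊤ := by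
    refine eq_top_iff.2 fun y _ => mem_gen_of_local S.ι (V.2.basicOpen g) y fun z hz => ?_
    letI := (B.presheaf.map (homOfLE (X.basicOpen_le g)).op).hom.toAlgebra
    haveI := B.isQC V.1 V.2 g
    obtain ⟨⟨b, _, n, rfl⟩, hb⟩ := IsLocalization.surj (Submonoid.powers (strS B V.1 g)) y
    let g' := resO X (X.basicOpen_le g) g
    have hu : IsUnit g' := RingedSpace.isUnit_res_basicOpen _ g
    refine ⟨g', by rw [Scheme.basicOpen_res]; exact ⟨hz, hz⟩, ?_⟩
    refine aRes_mem_gen S.ι _ ?_
    have e : y = strS B (X.basicOpen g) (↑(hu.pow n).unit⁻¹) * aRes B (X.basicOpen_le g) b := by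
      have hb' : y * aRes B (X.basicOpen_le g) (strS B V.1 g ^ n) = aRes B (X.basicOpen_le g) b := hb
      have hb'' : y * strS B (X.basicOpen g) (g' ^ n) = aRes B (X.basicOpen_le g) b := by
        rw [← hb', map_pow (aRes B (X.basicOpen_le g)), aRes_strS, map_pow]
      rw [← hb'', mul_left_comm, ← map_mul, IsUnit.val_inv_mul, map_one, mul_one]
    rw [e]
    exact mul_mem (strS_mem_gen _ _ _) (aRes_mem_gen _ _ (by rw [hV]; trivial))
  have key : ∀ (W : X.Opens) (b : B.presheaf.obj (op W)), W = X.basicOpen g → b ∈ gen S.ι W := by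
    rintro W b rfl; rw [hg']; trivial
  exact key _ _ hfg

/-- Case of `exists_generating` in the shape of the statements. -/
theorem exists_generating_submodule [CompactSpace X] [QuasiSeparatedSpace X] (B : RelSpec.QCAlg X)
    (hB : ∀ U : X.affineOpens, (B.str.app (op (U : X.Opens))).hom.FiniteType) :
    ∃ (E : X.Modules) (j : E ⟶ B.toModule), Mono j ∧ Coh.IsQCoh E ∧ CohB1.IsFT E ∧
      ∀ U : X.affineOpens,
        Subring.closure (Set.range (B.str.app (op (U : X.Opens))).hom ∪
          Set.range (fun e : E.val.obj (op (U : X.Opens)) ↦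
            (show B.presheaf.obj (op (U : X.Opens)) from (j.val.app (op (U : X.Opens))).hom e))) = ⊤ := by
  obtain ⟨S, hS, hgen⟩ := exists_generating B hB
  haveI : B.toModule.IsQuasicoherent := isQCoh_toModule B
  obtain ⟨hq, hft⟩ := Sub.isCoh_toModules hS
  exact ⟨S.toModules, S.ι, inferInstance, hq, hft, fun U => hgen U.1 U.2⟩

end Groth.Agent.QCSup
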