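import Groth.Agent.QCSup.Basic
import Groth.Agent.SymAlg.Exists
import Groth.Agent.RelSpecUP.Basic
import Mathlib.AlgebraicGeometry.Morphisms.ClosedImmersion
import Mathlib.AlgebraicGeometry.Morphisms.FiniteType

/-!
Affine morphisms of finite type embed in vector bundles.
-/

set_option autoImplicit false
set_option backward.isDefEq.respectTransparency false

universe u

open CategoryTheory CategoryTheory.Limits AlgebraicGeometry TopologicalSpace Opposite
open Groth.Agent.QC Groth.Agent.SymAlgGen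

noncomputable section

namespace Groth.Agent.QCSup

theorem exists_closedImmersion_vectorBundle {X Y : Scheme.{u}} [CompactSpace Y] [QuasiSeparatedSpace Y]
    (f : X ⟶ Y) [IsAffineHom f] [LocallyOfFiniteType f] :
    ∃ (E : Y.Modules) (_ : Coh.IsCoh E) (A : RelSpec.QCAlg Y) (j : E ⟶ A.toModule)
      (_ : RelSpec.IsSymAlg E A j) (i : X ⟶ A.spec), IsClosedImmersion i ∧ i ≫ A.π = f := by
  let B := RelSpec.QCAlg.directImage f
  have hB : ∀ U : Y.affineOpens, (B.str.app (op (U : Y.Opens))).hom.FiniteType := fun U =>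
    by
    have h := f.finiteType_appLE U.2 (U.2.preimage f) le_rfl
    rwa [Scheme.Hom.appLE, Subsingleton.elim (homOfLE _) (𝟙 _), op_id, CategoryTheory.Functor.map_id, Category.comp_id] at h
  obtain ⟨S, hS, hgen⟩ := exists_generating B hB
  haveI : B.toModule.IsQuasicoherent := isQCoh_toModule B
  obtain ⟨hq, hft⟩ := Sub.isCoh_toModules hS
  obtain ⟨A, j, γ, hA, -, -⟩ := SymAlg.exists_isSymAlg (E := S.toModules) hq
  obtain ⟨ψ, hψ, -⟩ := hA B S.ι
  have hsurj : ∀ U : Y.Opens, IsAffineOpen U → Function.Surjective (ψ.hom.app (op U)).hom := fun U hU => by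
    rw [← RingHom.range_eq_top, eq_top_iff, ← hgen U hU]
    refine Subring.closure_le.2 ?_
    rintro _ (⟨r, rfl⟩ | ⟨e, rfl⟩)
    · exact ⟨(A.str.app (op U)).hom r, congr($(NatTrans.congr_app ψ.comm (op U)) r)⟩
    · exact ⟨jsec j U e, congr(($hψ).app U e)⟩
  obtain ⟨⟨i, hi⟩, hω⟩ := (RelSpecUP.toAlg_bijective A f).2 ⟨ψ.hom, ψ.comm⟩
  refine ⟨S.toModules, ⟨hq, hft⟩, A, j, hA, i, ?_, hi⟩
  haveI : IsAffineHom i := by
    haveI : IsAffineHom (i ≫ A.π) := by rw [hi]; infer_instance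
    exact IsAffineHom.of_comp _ A.π
  refine IsZariskiLocalAtTarget.of_iSup_eq_top (P := @IsClosedImmersion)
    (fun U : Y.affineOpens => A.π ⁻¹ᵁ U.1) (top_le_iff.1 fun x _ => ?_) fun U => ?_
  · obtain ⟨U, hU, hx⟩ := exists_affine_mem (X := Y) (A.π x)
    exact Opens.mem_iSup.2 ⟨⟨U, hU⟩, hx⟩
  have hV : IsAffineOpen (A.π ⁻¹ᵁ U.1) := U.2.preimage A.π
  haveI : IsAffine (A.π ⁻¹ᵁ U.1 : A.spec.Opens).toScheme := hV
  rw [HasAffineProperty.iff_of_isAffine (P := @IsClosedImmersion)]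
  refine ⟨hV.preimage i, ?_⟩
  have h1 : Function.Surjective (i.app (A.π ⁻¹ᵁ U.1)).hom := by
    have hle : f ⁻¹ᵁ U.1 ≤ i ⁻¹ᵁ (A.π ⁻¹ᵁ U.1) := by rw [← Scheme.Hom.comp_preimage, hi]
    have hle' : i ⁻¹ᵁ (A.π ⁻¹ᵁ U.1) ≤ f ⁻¹ᵁ U.1 := by rw [← Scheme.Hom.comp_preimage, hi]
    have e : AffAlg.algHom A.π f i hi = A.gammaMap ≫ ψ.hom := by
      have h := congrArg Subtype.val hω
      change inv A.gammaMap ≫ AffAlg.algHom A.π f i hi = ψ.hom at h
      rw [← h, IsIso.hom_inv_id_assoc]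
    have e' : i.appLE (A.π ⁻¹ᵁ U.1) (f ⁻¹ᵁ U.1) hle = A.gammaMap.app (op U.1) ≫ ψ.hom.app (op U.1) := by
      rw [← NatTrans.comp_app, ← e, RelSpecUP.algHom_app]
    have hb : Function.Bijective (A.gammaMap.app (op U.1)) :=
      ConcreteCategory.bijective_of_isIso ((asIso A.gammaMap).app (op U.1)).hom
    have hs : Function.Surjective (i.appLE (A.π ⁻¹ᵁ U.1) (f ⁻¹ᵁ U.1) hle).hom := by
      rw [e']
      exact (hsurj U.1 U.2).comp hb.2
    intro y
    haveI : IsIso (homOfLE hle) := ⟨homOfLE hle', Subsingleton.elim _ _, Subsingleton.elim _ _⟩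
    obtain ⟨x, hx⟩ := hs ((X.presheaf.map (homOfLE hle).op) y)
    exact ⟨x, (ConcreteCategory.bijective_of_isIso (X.presheaf.map (homOfLE hle).op)).1 hx⟩
  have h2 : ∀ (W : A.spec.Opens), W = A.π ⁻¹ᵁ U.1 → Function.Surjective (i.app W).hom := by
    rintro W rfl; exact h1
  rw [Scheme.Hom.appTop, morphismRestrict_app]
  intro y
  haveI : IsIso ((X.presheaf).map (eqToHom (image_morphismRestrict_preimage i (A.π ⁻¹ᵁ U.1) ⊤)).op) :=
    inferInstance
  obtain ⟨y', hy'⟩ := (ConcreteCategory.bijective_of_isIso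
    ((X.presheaf).map (eqToHom (image_morphismRestrict_preimage i (A.π ⁻¹ᵁ U.1) ⊤)).op)).2 y
  obtain ⟨x, hx⟩ := h2 _ (Scheme.Opens.ι_image_top _) y'
  exact ⟨x, (congrArg _ hx).trans hy'⟩

end Groth.Agent.QCSup
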